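import Cfsg.Agent.CpAut.SmallP.Tools
import Cfsg.Agent.CpAut.SmallP.J2
import Cfsg.Agent.CpAut.SmallP.He
import Cfsg.Agent.CpAut.SmallP.McL

/-!
# The 2-part of centralizers of elements of order 5 and 7 in `J2`, `He`, `McL` (helper91)
-/

set_option autoImplicit false

namespace Cfsg.Agent.CpAut.SmallP

open Subgroup Cfsg

section

variable {K : Type*} [Group K] [Finite K]

/-- the 2-part of `|C(x)|` from the groups `C(t) ∩ C(x)` -/
theorem not_dvd_of_DD {x : K} {k : ℕ} (hk : 1 ≤ k)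
    (h : ∀ t : K, t * t = 1 → t ≠ 1 → t * x = x * t → ¬ 2 ^ k ∣ Nat.card ↥(DD x t)) :
    ¬ 2 ^ k ∣ Nat.card ↥(centralizer ({x} : Set K)) := by
  intro hd
  have hp2 : Fact (Nat.Prime 2) := ⟨Nat.prime_two⟩
  let C := centralizer ({x} : Set K)
  obtain ⟨S0⟩ : Nonempty (Sylow 2 ↥C) := inferInstance
  obtain ⟨S, hSS, hS⟩ : ∃ S : Subgroup ↥C, IsPGroup 2 ↥S ∧ 2 ^ k ∣ Nat.card ↥S :=
    ⟨S0, S0.isPGroup', S0.pow_dvd_card_of_pow_dvd_card hd⟩
  have hnt : Nontrivial ↥S := by
    rw [← Finite.one_lt_card_iff_nontrivial]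
    have h1 : 2 ^ 1 ≤ 2 ^ k := Nat.pow_le_pow_right (by norm_num) hk
    have h2 := Nat.le_of_dvd Nat.card_pos hS
    omega
  have hZ : Nontrivial (center ↥S) := hSS.center_nontrivial
  have h2Z : 2 ∣ Nat.card (center ↥S) := by
    obtain ⟨n, hn⟩ := IsPGroup.iff_card.1 (hSS.to_subgroup (center ↥S))
    have h1 : 1 < Nat.card (center ↥S) := Finite.one_lt_card
    rw [hn] at h1 ⊢
    have hn0 : n ≠ 0 := by rintro rfl; simp at h1
    exact dvd_pow_self 2 hn0
  obtain ⟨t, ht⟩ := exists_prime_orderOf_dvd_card' 2 h2Z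
  let t1 : K := ((t : ↥S) : ↥C)
  have ht2 : t * t = 1 := by
    have h1 := pow_orderOf_eq_one t
    rwa [ht, pow_two] at h1
  have htt : t1 * t1 = 1 := congrArg (fun a : center ↥S => (((a : ↥S) : ↥C) : K)) ht2
  have ht1 : t1 ≠ 1 := by
    intro h1
    have h2 : t = 1 := Subtype.ext (Subtype.ext (Subtype.ext h1))
    rw [h2, orderOf_one] at ht
    norm_num at ht
  have htx : t1 * x = x * t1 := mem_centralizer_singleton_iff.1 ((t : ↥S) : ↥C).2
  apply h t1 htt ht1 htx
  refine hS.trans ?_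
  have hle : (S.map C.subtype) ≤ DD x t1 := by
    rintro _ ⟨s, hs, rfl⟩
    refine mem_DD.2 ⟨?_, mem_centralizer_singleton_iff.1 s.2⟩
    have h3 := mem_center_iff.1 t.2 ⟨s, hs⟩
    exact congrArg (fun a : ↥S => ((a : ↥C) : K)) h3
  have hc : Nat.card ↥(S.map C.subtype) = Nat.card ↥S :=
    Subgroup.card_map_of_injective C.subtype_injective
  have h4 := Subgroup.card_dvd_of_le hle
  rw [hc] at h4
  exact h4

omit [Finite K] in
theorem card_DD_of_isConj {p n : ℕ} {t t' : K} (ht : IsConj t t')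
    (h : ∀ x : K, orderOf x = p → t * x = x * t → Nat.card ↥(DD x t) ∣ n)
    {x : K} (hx : orderOf x = p) (hxt : t' * x = x * t') : Nat.card ↥(DD x t') ∣ n := by
  obtain ⟨g, rfl⟩ := isConj_iff.1 ht
  have h1 := h (g⁻¹ * x * g) (by
    have h2 : g⁻¹ * x * g = MulAut.conj g⁻¹ x := by simp
    rw [h2, MulEquiv.orderOf_eq, hx]) (by
    calc t * (g⁻¹ * x * g) = g⁻¹ * ((g * t * g⁻¹) * x) * g := by group
      _ = g⁻¹ * (x * (g * t * g⁻¹)) * g := by rw [hxt]
      _ = _ := by group)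
  rw [Nat.card_congr (conjDD (g⁻¹ * x * g) t g).toEquiv] at h1
  have h2 : g * (g⁻¹ * x * g) * g⁻¹ = x := by group
  rwa [h2] at h1

end

theorem card_cent_congr {X Y : Type*} [Group X] [Group Y] (e : X ≃* Y) (x : X) :
    Nat.card ↥(centralizer ({e x} : Set Y)) = Nat.card ↥(centralizer ({x} : Set X)) := by
  have h : centralizer ({e x} : Set Y) = (centralizer ({x} : Set X)).map e.toMonoidHom := by
    ext y
    rw [mem_centralizer_singleton_iff, mem_map_equiv, mem_centralizer_singleton_iff]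
    constructor
    · intro h
      apply e.injective
      rw [map_mul, map_mul, e.apply_symm_apply, h]
    · intro h
      have h1 := congrArg e h
      rwa [map_mul, map_mul, e.apply_symm_apply] at h1
  rw [h]
  exact Subgroup.card_map_of_injective e.injective

namespace J2

/-- an element of order 5 of `J2` commutes with no group of order 8 -/
theorem not_eight {X : Type*} [Group X] [Finite X] (h : Spor.IsoJ2 X) {x : X} (hx : orderOf x = 5) :
    ¬ 8 ∣ Nat.card ↥(centralizer ({x} : Set X)) := by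
  obtain ⟨t, u, Q, v, ρ, D⟩ := KFacts.J2.Facts.exists_dat_of h
  refine not_dvd_of_DD (k := 3) (by norm_num) fun s hs hs1 hsx h8 => ?_
  have h1 : Nat.card ↥(DD x s) ∣ 4 * 5 := by
    rcases D.F.cover s (orderOf_eq_prime (by rw [pow_two]; exact hs) hs1) with h1 | h1
    · exact card_DD_of_isConj h1 (card_z D.F) hx hsx
    · exact card_DD_of_isConj h1 (card_u D.F) hx hsx
  have h2 := h8.trans h1
  norm_num at h2

end J2

namespace He

theorem not_eight_five {X : Type*} [Group X] (h : Spor.IsoHe X) {x : X} (hx : orderOf x = 5) :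
    ¬ 8 ∣ Nat.card ↥(centralizer ({x} : Set X)) := by
  obtain ⟨e⟩ := h
  have := finite_he
  rw [← card_cent_congr e x]
  refine not_dvd_of_DD (k := 3) (by norm_num) fun s hs hs1 hsx h8 => ?_
  have hx' : orderOf (e x) = 5 := by rw [MulEquiv.orderOf_eq, hx]
  have h1 : Nat.card ↥(DD (e x) s) ∣ 4 * 5 := by
    rcases KFacts.He.Classes.two_classes_a hs hs1 with ⟨g, hg⟩ | ⟨g, hg⟩
    · exact card_DD_of_isConj (isConj_iff.2 ⟨g, hg⟩) (fun x hx hzx => (ok_z5 hx hzx).elim) hx' hsx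
    · exact card_DD_of_isConj (isConj_iff.2 ⟨g, hg⟩) (fun x hx hzx => card_a5 hx hzx) hx' hsx
  have h2 := h8.trans h1
  norm_num at h2

theorem not_sixteen_seven {X : Type*} [Group X] (h : Spor.IsoHe X) {x : X} (hx : orderOf x = 7) :
    ¬ 16 ∣ Nat.card ↥(centralizer ({x} : Set X)) := by
  obtain ⟨e⟩ := h
  have := finite_he
  rw [← card_cent_congr e x]
  refine not_dvd_of_DD (k := 4) (by norm_num) fun s hs hs1 hsx h8 => ?_
  have hx' : orderOf (e x) = 7 := by rw [MulEquiv.orderOf_eq, hx]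
  have h1 : Nat.card ↥(DD (e x) s) ∣ 8 * 7 := by
    rcases KFacts.He.Classes.two_classes_a hs hs1 with ⟨g, hg⟩ | ⟨g, hg⟩
    · exact card_DD_of_isConj (isConj_iff.2 ⟨g, hg⟩) (fun x hx hzx => (card_z7 hx hzx).trans (by norm_num)) hx' hsx
    · exact card_DD_of_isConj (isConj_iff.2 ⟨g, hg⟩) (fun x hx hzx => card_a7 hx hzx) hx' hsx
  have h2 := h8.trans h1
  norm_num at h2

end He

namespace McL

theorem not_four {X : Type*} [Group X] (h : Spor.IsoMcL X) {x : X} (hx : orderOf x = 5) :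
    ¬ 4 ∣ Nat.card ↥(centralizer ({x} : Set X)) := by
  obtain ⟨hf, -, -, ⟨L⟩⟩ := TypeM.FactsMcL.facts h
  exact not_dvd_of_DD (k := 2) (by norm_num) fun s hs hs1 hsx h4 => not_four_DD L hs hs1 hx hsx h4

/-- centralizers of elements of order 5 of `McL` are solvable -/
theorem isSolvable_five {X : Type*} [Group X] (h : Spor.IsoMcL X) {x : X} (hx : orderOf x = 5) :
    Group.IsSolvable ↥(centralizer ({x} : Set X)) := by
  obtain ⟨hf, -⟩ := TypeM.FactsMcL.facts h
  exact isSolvable_of_not_four_dvd (not_four h hx)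

end McL

end Cfsg.Agent.CpAut.SmallP
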